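import Cfsg.Agent.Lib.KnownSimple.MultM.U33H.ValC0
import Cfsg.Agent.Lib.KnownSimple.MultC.ValH

/-!
# The relations between the relators
-/

set_option autoImplicit false

namespace Cfsg.Agent.Lib.KnownSimple.MultM.U33H

open Cfsg Cfsg.Spor Cfsg.Agent.Lib.Compute Cfsg.Agent.Lib.KnownSimple.PE Cfsg.Agent.Lib.KnownSimple.Leech
open Cfsg.Agent.Lib.KnownSimple Cfsg.Agent.Lib.KnownSimple.AutRigid Cfsg.Agent.Lib.KnownSimple.Pres
open Cfsg.Agent.Lib.KnownSimple.MultC


theorem hEF : ∀ e, e < n * d → chkEdgeG 4294967296 mskM cKK C.τ d n RL 20 2 16 (lookP parT) (lookP genT) (lg 0 peL) tv e = true := by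
  have h : allBelow fe 1152 = true :=
    allBelow_of_pad (m := 2) (s := 1024) (by norm_num) (fun c hc => by
    interval_cases c
    · exact ve0
    · exact ve1
  )
  intro e he
  exact (allBelow_iff _ _).1 h e he
set_option maxHeartbeats 0 in
set_option maxRecDepth 100000 in
theorem hLn : allBelow (fun q => Nat.blt (((lg [] RL q).length + 1) * 65536) 4294967296) 20 = true := by decide +kernel
theorem hE : ∀ e, e < n * d → chkEdge C.τ d n RL 20 2 16 (lookP parT) (lookP genT) (lg 0 peL) (toV 4294967296 18 tv) e = true :=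
  chkEdge_of_G (by norm_num) (good_of_mask (W := 32) (b := 16) (by norm_num) (by norm_num) (by norm_num) (by decide +kernel) (by decide +kernel))
    (fun l i hl hi => C.hlt l i hl hi) (fun q _ => words_lg hokR q) (len_of_chk hLn) hEF
set_option maxRecDepth 100000 in
/-- The relations. -/
def rowsF : List (ℕ × ℕ × List ℤ) := [(0,14,[.negSucc 0,.ofNat 1,.ofNat 0,.negSucc 0,.negSucc 0,.ofNat 0,.ofNat 0,.ofNat 0,.ofNat 1,.ofNat 1,.ofNat 1,.ofNat 0,.ofNat 0,.ofNat 0,.ofNat 0,.ofNat 0,.ofNat 0,.ofNat 0]),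
  (4,12,[.negSucc 1,.ofNat 2,.ofNat 0,.ofNat 8,.negSucc 0,.ofNat 2,.negSucc 2,.ofNat 2,.ofNat 3,.negSucc 0,.ofNat 2,.negSucc 0,.ofNat 1,.ofNat 1,.ofNat 1,.ofNat 0,.negSucc 1,.negSucc 1]),
  (7,7,[.ofNat 0,.negSucc 2,.ofNat 0,.ofNat 0,.ofNat 3,.ofNat 0,.ofNat 0,.ofNat 0,.ofNat 0,.ofNat 0,.ofNat 0,.ofNat 0,.ofNat 0,.ofNat 0,.ofNat 0,.ofNat 0,.ofNat 0,.ofNat 0]),
  (8,16,[.ofNat 0,.ofNat 0,.ofNat 1,.ofNat 0,.ofNat 0,.ofNat 0,.negSucc 0,.negSucc 0,.ofNat 0,.ofNat 0,.ofNat 0,.ofNat 0,.ofNat 1,.ofNat 0,.ofNat 0,.ofNat 0,.ofNat 0,.ofNat 0]),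
  (24,15,[.ofNat 0,.ofNat 0,.ofNat 3,.ofNat 6,.ofNat 3,.negSucc 0,.negSucc 0,.ofNat 0,.ofNat 2,.ofNat 0,.ofNat 0,.ofNat 0,.ofNat 0,.ofNat 0,.ofNat 0,.ofNat 0,.ofNat 0,.negSucc 0]),
  (28,18,[.ofNat 0,.negSucc 2,.negSucc 2,.negSucc 2,.ofNat 3,.ofNat 0,.ofNat 3,.ofNat 1,.ofNat 0,.ofNat 0,.ofNat 0,.ofNat 0,.negSucc 0,.negSucc 0,.ofNat 0,.ofNat 0,.ofNat 0,.ofNat 0]),
  (41,18,[.ofNat 0,.ofNat 3,.ofNat 5,.ofNat 3,.negSucc 1,.ofNat 0,.negSucc 2,.negSucc 1,.ofNat 0,.ofNat 0,.ofNat 0,.ofNat 0,.ofNat 1,.ofNat 1,.ofNat 0,.ofNat 0,.ofNat 0,.ofNat 0]),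
  (43,13,[.ofNat 0,.ofNat 0,.negSucc 1,.ofNat 0,.ofNat 4,.ofNat 0,.ofNat 0,.ofNat 1,.ofNat 2,.ofNat 0,.ofNat 0,.ofNat 0,.ofNat 0,.ofNat 0,.ofNat 0,.negSucc 0,.ofNat 0,.ofNat 0]),
  (47,12,[.ofNat 0,.ofNat 0,.ofNat 0,.ofNat 3,.ofNat 0,.ofNat 0,.negSucc 0,.ofNat 1,.ofNat 0,.negSucc 0,.ofNat 0,.ofNat 0,.ofNat 0,.ofNat 1,.ofNat 0,.ofNat 0,.ofNat 0,.ofNat 0]),
  (62,19,[.ofNat 0,.ofNat 0,.negSucc 0,.negSucc 0,.ofNat 2,.negSucc 0,.ofNat 2,.ofNat 0,.ofNat 1,.ofNat 1,.ofNat 0,.ofNat 0,.ofNat 0,.negSucc 0,.ofNat 0,.ofNat 0,.ofNat 0,.negSucc 0]),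
  (73,17,[.ofNat 0,.ofNat 0,.negSucc 1,.negSucc 3,.negSucc 2,.negSucc 0,.ofNat 0,.ofNat 0,.ofNat 0,.ofNat 1,.ofNat 0,.ofNat 0,.ofNat 0,.ofNat 0,.ofNat 0,.ofNat 0,.ofNat 0,.ofNat 1]),
  (80,4,[.ofNat 0,.ofNat 0,.ofNat 0,.ofNat 2,.ofNat 0,.ofNat 0,.ofNat 1,.ofNat 1,.ofNat 0,.ofNat 0,.ofNat 0,.ofNat 0,.negSucc 0,.ofNat 0,.ofNat 0,.ofNat 0,.ofNat 0,.ofNat 0]),
  (95,10,[.ofNat 0,.ofNat 0,.ofNat 0,.ofNat 0,.ofNat 2,.ofNat 0,.ofNat 1,.ofNat 0,.ofNat 0,.ofNat 0,.ofNat 0,.ofNat 0,.ofNat 0,.ofNat 0,.ofNat 0,.ofNat 0,.ofNat 0,.ofNat 0]),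
  (104,15,[.ofNat 0,.ofNat 0,.negSucc 1,.negSucc 3,.negSucc 2,.ofNat 1,.ofNat 1,.ofNat 0,.ofNat 0,.ofNat 2,.negSucc 0,.ofNat 0,.ofNat 0,.ofNat 0,.ofNat 0,.ofNat 0,.ofNat 0,.ofNat 1]),
  (109,12,[.ofNat 0,.ofNat 0,.ofNat 2,.ofNat 0,.ofNat 6,.ofNat 0,.ofNat 1,.negSucc 1,.ofNat 0,.negSucc 0,.ofNat 0,.ofNat 0,.ofNat 2,.negSucc 0,.ofNat 0,.ofNat 0,.ofNat 0,.ofNat 0]),
  (142,7,[.negSucc 4,.ofNat 2,.negSucc 3,.negSucc 5,.negSucc 3,.ofNat 11,.ofNat 0,.ofNat 1,.negSucc 3,.ofNat 1,.ofNat 0,.negSucc 6,.negSucc 2,.ofNat 4,.negSucc 1,.ofNat 2,.ofNat 1,.ofNat 3]),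
  (156,17,[.ofNat 0,.ofNat 0,.ofNat 0,.ofNat 1,.ofNat 3,.ofNat 1,.ofNat 1,.ofNat 0,.ofNat 0,.negSucc 0,.ofNat 0,.ofNat 0,.ofNat 0,.ofNat 0,.ofNat 0,.ofNat 0,.ofNat 0,.negSucc 0]),
  (173,17,[.ofNat 0,.ofNat 0,.negSucc 0,.negSucc 0,.negSucc 3,.ofNat 3,.ofNat 1,.ofNat 1,.negSucc 2,.negSucc 0,.ofNat 0,.ofNat 0,.negSucc 0,.ofNat 0,.ofNat 1,.ofNat 1,.ofNat 0,.ofNat 0]),
  (211,8,[.ofNat 0,.ofNat 0,.ofNat 0,.ofNat 0,.ofNat 0,.ofNat 2,.ofNat 0,.ofNat 0,.negSucc 0,.ofNat 0,.ofNat 0,.negSucc 0,.ofNat 0,.ofNat 0,.ofNat 0,.ofNat 0,.ofNat 1,.ofNat 0])]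
set_option maxRecDepth 100000 in
/-- The relations, packed. -/
def rowsP : List (ℕ × ℕ × ℕ × ℕ) := [(0,14,2135987036418233318920600437562250558173096347465796828597659309928324266713257631043412887076864,340282367000166625977638945025312161793),
  (4,12,726838724464837218599029455416089332426581761055375093090563350268079799080404522566264103313411808281569577409624725530519148934725632,115172193167121443259834979995909185583475938483487797448573303408774125238680558147132153652268696181576620944238455603077740599600592784809396132673409352697118722),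
  (7,7,1020847100762815390390123822295304634368,12884901888),
  (8,16,39402006196394479212279040100143613805079739270465446667948293404245721771497210611414266254884934087550701699858432,26959946673427741530053695850855420096844810838642927925567644762112),
  (24,15,231584178474632390847141970017375815707560816432519312444446218095903956271104,57586096570152913699974892898380567793532123114264532903689671329431521032595044740083720782129802971518993933210804305759466972202668447370557812953538217312780288),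
  (28,18,26959946685981945000827057379547846044022959061237762636791018422272,169230328049705647528084798068668426296215212643935731407335538258196175960741426302745648483981616860355864052457622361604096),
  (41,18,169230328049705647528084798068668426296215212643935731407335538258196175960741426302745648483981616860355900945945769780707328,53919893353132584795494072466227194350739165020314960510462860460032),
  (43,13,231584178501592337514292609812042830794920729472602026355309238926656942374912,3121748550315992231381597229793166305748598142664971150859156959625371738819765620120306103063491971159826931121406622895448012572776432725393408),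
  (47,12,169230328010303641331690318856389386196071598838855992136897051536915033196290371546335457503240987749893433643899863967989760,497323236409786642155382248153097941835842831561183506863671643309261852456997410045952),
  (62,19,497323236525578731392698443582946028579917420178969845686361750691748541124238110621696,57586096570152913699974892898380567793701353442274836545021361648287910418791116338922576774266673063109235538665564623609951574285812431853287593587581400257658880),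
  (73,17,57586096570152913699974892898380567793532123114264532903689671329431521032595542063320130568771958353767134476949167913727863153227767499996202153812086630721257472,1461501638351750019283412873200357680472832081920),
  (80,4,26959946673427741530053695850855420097003267163671456600754732662784,39402006196394479212279040100143613805079739270465446667948293404245721771497210611414266254884915640806627990306816),
  (95,10,6277101735386680764516354157049543343029104659327570935808,0),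
  (104,15,57586096570152913699974892898380567793532123114264532903689671329431521032596039386556540355414113736015287574891005218061061667637549375324344131947563284063846400,2135987035920910082395021706169552114602704522356652769948062454923299453821124624683778986475520),
  (109,12,78804012392788958424558080200287227610159478540930893335902863910226830223760298706453265806966750778190458043498496,169230328010303641331690318856389386196568922075265778779079393731729004676185494712219824851354851186721590920380720321921024),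
  (142,7,172758289723866549036110772895347712842242331241900511708485364926773624388009995888167286556020477161520284103850112191046226088398031029999178484546566291393085440,1453677448591213781216853634429410467591841844000169947047141218871928000709046882269806505876267044554376137982134465484035842144993285),
  (156,17,6277101736848182402187539442253394801723026624008815640576,57586096570152913699974892898380567793532123114264532903689671329431521032595542063320130568771958353767134476949167913727863153227767499996202153812086630721257472),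
  (173,17,3121748551042830955677204120342490113636602677018612511546475019906861938000431868180377454131217460074353344811020600367050945389807422377295872,39402006196394479212279040100640937041836902180332777502365827199372241645855729412319414905912834099354295081107456),
  (211,8,13407807929942597099574024998205846127479365820592393377723561443721764030073546976801874298166903427690034781189760712659590290181612002512472960871170048,9173994463960286046443283581324139852423576152096695479959043265400961489019579796319531796448415875858432)]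
set_option maxHeartbeats 0 in
set_option maxRecDepth 100000 in
theorem hFm : (rowsP.map fun x => (x.1, x.2.1, decV 4294967296 18 x.2.2.1 x.2.2.2)) = rowsF := by decide +kernel
set_option maxHeartbeats 0 in
set_option maxRecDepth 100000 in
theorem hFb : (rowsP.all fun x => bcond (maskOK mskM cKK x.2.2.1) (maskOK mskM cKK x.2.2.2) false) = true := by decide +kernel
set_option maxHeartbeats 0 in
set_option maxRecDepth 100000 in
theorem hFc : (rowsP.all (chkRowG τ d n RL 20 (n * d) 865 tv)) = true := by decide +kernel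
theorem hF : ∀ x ∈ rowsF, chkRow C.τ d n RL 20 (n * d) 865 (toV 4294967296 18 tv) x = true :=
  chkRow_of_G (by norm_num) (good_of_mask (W := 32) (b := 16) (by norm_num) (by norm_num) (by norm_num) (by decide +kernel) (by decide +kernel))
    (fun l i hl hi => C.hlt l i hl hi) (fun q _ => words_lg hokR q) (len_of_chk hLn) hEF rowsP rowsF hFm hFb hFc
set_option maxRecDepth 100000 in
/-- A combination. -/
def cb0 : List (ℕ × ℤ) := [(0,.ofNat 6),(1,.ofNat 2),(2,.ofNat 2),(3,.negSucc 2),(7,.negSucc 0),(8,.ofNat 6),(10,.ofNat 4),(11,.negSucc 11),(12,.ofNat 15),(13,.negSucc 1),(15,.negSucc 1),(16,.negSucc 5),(17,.ofNat 2),(18,.ofNat 12)]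
set_option maxHeartbeats 0 in
set_option maxRecDepth 100000 in
theorem hcb0 : chkComb 2 16 rowsF 0 0 (0) cb0 = true := by decide +kernel
set_option maxRecDepth 100000 in
/-- A combination. -/
def cb1 : List (ℕ × ℤ) := [(0,.negSucc 5),(1,.negSucc 1),(2,.negSucc 1),(3,.ofNat 2),(7,.ofNat 1),(8,.negSucc 5),(10,.negSucc 4),(11,.ofNat 11),(12,.negSucc 14),(13,.ofNat 2),(15,.ofNat 2),(16,.ofNat 5),(17,.negSucc 1),(18,.negSucc 11)]
set_option maxHeartbeats 0 in
set_option maxRecDepth 100000 in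
theorem hcb1 : chkComb 2 16 rowsF 0 1 (0) cb1 = true := by decide +kernel
set_option maxRecDepth 100000 in
/-- A combination. -/
def cb2 : List (ℕ × ℤ) := [(0,.ofNat 6),(1,.ofNat 2),(2,.ofNat 2),(3,.negSucc 1),(5,.negSucc 0),(6,.negSucc 0),(7,.negSucc 0),(8,.ofNat 6),(10,.ofNat 4),(11,.negSucc 11),(12,.ofNat 16),(13,.negSucc 1),(15,.negSucc 1),(16,.negSucc 5),(17,.ofNat 2),(18,.ofNat 12)]
set_option maxHeartbeats 0 in
set_option maxRecDepth 100000 in
theorem hcb2 : chkComb 2 16 rowsF 0 2 (0) cb2 = true := by decide +kernel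
set_option maxRecDepth 100000 in
/-- A combination. -/
def cb3 : List (ℕ × ℤ) := [(0,.ofNat 6),(1,.ofNat 2),(3,.negSucc 0),(4,.ofNat 1),(5,.ofNat 1),(6,.negSucc 0),(7,.negSucc 0),(8,.ofNat 6),(9,.negSucc 1),(10,.ofNat 4),(11,.negSucc 12),(12,.ofNat 16),(13,.negSucc 1),(15,.negSucc 1),(16,.negSucc 5),(17,.ofNat 2),(18,.ofNat 12)]
set_option maxHeartbeats 0 in
set_option maxRecDepth 100000 in
theorem hcb3 : chkComb 2 16 rowsF 0 3 (0) cb3 = true := by decide +kernel
set_option maxRecDepth 100000 in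
/-- A combination. -/
def cb4 : List (ℕ × ℤ) := [(0,.negSucc 5),(1,.negSucc 1),(2,.negSucc 1),(7,.ofNat 1),(8,.negSucc 5),(10,.negSucc 5),(11,.ofNat 9),(12,.negSucc 14),(13,.ofNat 2),(15,.ofNat 2),(16,.ofNat 4),(17,.negSucc 1),(18,.negSucc 11)]
set_option maxHeartbeats 0 in
set_option maxRecDepth 100000 in
theorem hcb4 : chkComb 2 16 rowsF 0 4 (0) cb4 = true := by decide +kernel
set_option maxRecDepth 100000 in
/-- A combination. -/
def cb5 : List (ℕ × ℤ) := [(0,.ofNat 18),(1,.ofNat 6),(2,.ofNat 6),(3,.negSucc 7),(5,.negSucc 1),(6,.negSucc 1),(7,.negSucc 2),(8,.ofNat 18),(10,.ofNat 12),(11,.negSucc 35),(12,.ofNat 46),(13,.negSucc 5),(15,.negSucc 5),(16,.negSucc 17),(17,.ofNat 6),(18,.ofNat 36)]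
set_option maxHeartbeats 0 in
set_option maxRecDepth 100000 in
theorem hcb5 : chkComb 2 16 rowsF 0 5 (0) cb5 = true := by decide +kernel
set_option maxRecDepth 100000 in
/-- A combination. -/
def cb6 : List (ℕ × ℤ) := [(0,.negSucc 2),(1,.negSucc 0),(2,.negSucc 2),(4,.ofNat 3),(5,.ofNat 1),(6,.negSucc 0),(7,.ofNat 1),(8,.negSucc 2),(9,.negSucc 2),(10,.negSucc 0),(11,.ofNat 2),(12,.negSucc 5),(13,.ofNat 1),(14,.ofNat 1),(15,.ofNat 1),(16,.ofNat 1),(18,.negSucc 5)]
set_option maxHeartbeats 0 in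
set_option maxRecDepth 100000 in
theorem hcb6 : chkComb 2 16 rowsF 0 6 (0) cb6 = true := by decide +kernel
set_option maxRecDepth 100000 in
/-- A combination. -/
def cb7 : List (ℕ × ℤ) := [(0,.ofNat 15),(1,.ofNat 5),(2,.ofNat 4),(3,.negSucc 3),(4,.negSucc 0),(5,.negSucc 0),(6,.negSucc 1),(7,.negSucc 2),(8,.ofNat 15),(10,.ofNat 8),(11,.negSucc 29),(12,.ofNat 39),(13,.negSucc 4),(14,.negSucc 0),(15,.negSucc 4),(16,.negSucc 14),(17,.ofNat 4),(18,.ofNat 30)]
set_option maxHeartbeats 0 in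
set_option maxRecDepth 100000 in
theorem hcb7 : chkComb 2 16 rowsF 0 7 (0) cb7 = true := by decide +kernel
set_option maxRecDepth 100000 in
/-- A combination. -/
def cb8 : List (ℕ × ℤ) := [(0,.ofNat 24),(1,.ofNat 8),(2,.ofNat 4),(3,.negSucc 4),(4,.negSucc 0),(5,.ofNat 2),(6,.negSucc 1),(7,.negSucc 4),(8,.ofNat 24),(9,.negSucc 1),(10,.ofNat 14),(11,.negSucc 47),(12,.ofNat 61),(13,.negSucc 8),(14,.negSucc 1),(15,.negSucc 7),(16,.negSucc 21),(17,.ofNat 6),(18,.ofNat 48)]
set_option maxHeartbeats 0 in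
set_option maxRecDepth 100000 in
theorem hcb8 : chkComb 2 16 rowsF 0 8 (0) cb8 = true := by decide +kernel
set_option maxRecDepth 100000 in
/-- A combination. -/
def cb9 : List (ℕ × ℤ) := [(0,.negSucc 6),(1,.negSucc 3),(2,.negSucc 3),(3,.ofNat 3),(4,.ofNat 1),(5,.negSucc 0),(6,.negSucc 1),(7,.ofNat 1),(8,.negSucc 9),(9,.negSucc 2),(10,.negSucc 6),(11,.ofNat 18),(12,.negSucc 24),(13,.ofNat 3),(15,.ofNat 3),(16,.ofNat 11),(17,.negSucc 3),(18,.negSucc 17)]
set_option maxHeartbeats 0 in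
set_option maxRecDepth 100000 in
theorem hcb9 : chkComb 2 16 rowsF 0 9 (0) cb9 = true := by decide +kernel
set_option maxRecDepth 100000 in
/-- A combination. -/
def cb10 : List (ℕ × ℤ) := [(0,.ofNat 6),(1,.ofNat 2),(2,.ofNat 2),(3,.negSucc 3),(5,.negSucc 1),(6,.negSucc 1),(7,.negSucc 0),(8,.ofNat 6),(10,.ofNat 2),(11,.negSucc 14),(12,.ofNat 16),(13,.negSucc 1),(15,.negSucc 1),(16,.negSucc 7),(17,.ofNat 2),(18,.ofNat 12)]
set_option maxHeartbeats 0 in
set_option maxRecDepth 100000 in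
theorem hcb10 : chkComb 2 16 rowsF 0 10 (0) cb10 = true := by decide +kernel
set_option maxRecDepth 100000 in
/-- A combination. -/
def cb11 : List (ℕ × ℤ) := [(0,.ofNat 9),(1,.ofNat 3),(2,.ofNat 3),(3,.negSucc 4),(4,.negSucc 0),(5,.negSucc 1),(6,.negSucc 1),(7,.negSucc 1),(8,.ofNat 9),(10,.ofNat 3),(11,.negSucc 20),(12,.ofNat 24),(13,.negSucc 2),(14,.negSucc 0),(15,.negSucc 2),(16,.negSucc 9),(17,.ofNat 2),(18,.ofNat 18)]
set_option maxHeartbeats 0 in
set_option maxRecDepth 100000 in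
theorem hcb11 : chkComb 2 16 rowsF 0 11 (0) cb11 = true := by decide +kernel
set_option maxRecDepth 100000 in
/-- A combination. -/
def cb12 : List (ℕ × ℤ) := [(0,.negSucc 5),(1,.negSucc 1),(2,.negSucc 0),(3,.negSucc 0),(4,.ofNat 2),(5,.negSucc 2),(6,.negSucc 1),(7,.ofNat 2),(8,.negSucc 5),(10,.negSucc 4),(11,.ofNat 6),(12,.negSucc 11),(13,.ofNat 2),(14,.ofNat 1),(15,.ofNat 2),(16,.ofNat 1),(18,.negSucc 11)]
set_option maxHeartbeats 0 in
set_option maxRecDepth 100000 in
theorem hcb12 : chkComb 2 16 rowsF 0 12 (0) cb12 = true := by decide +kernel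
set_option maxRecDepth 100000 in
/-- A combination. -/
def cb13 : List (ℕ × ℤ) := [(0,.ofNat 12),(1,.ofNat 4),(2,.ofNat 2),(3,.negSucc 4),(4,.ofNat 3),(5,.negSucc 1),(6,.negSucc 3),(7,.negSucc 1),(8,.ofNat 12),(9,.negSucc 2),(10,.ofNat 9),(11,.negSucc 27),(12,.ofNat 34),(13,.negSucc 3),(14,.ofNat 1),(15,.negSucc 3),(16,.negSucc 13),(17,.ofNat 5),(18,.ofNat 24)]
set_option maxHeartbeats 0 in
set_option maxRecDepth 100000 in
theorem hcb13 : chkComb 2 16 rowsF 0 13 (0) cb13 = true := by decide +kernel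
set_option maxRecDepth 100000 in
/-- A combination. -/
def cb14 : List (ℕ × ℤ) := [(0,.ofNat 2),(1,.negSucc 0),(2,.negSucc 2),(4,.ofNat 1),(6,.negSucc 2),(7,.negSucc 0),(8,.negSucc 0),(9,.negSucc 3),(10,.negSucc 1),(11,.negSucc 1),(12,.negSucc 1),(13,.negSucc 0),(14,.negSucc 0),(16,.ofNat 2),(17,.negSucc 1),(18,.ofNat 1)]
set_option maxHeartbeats 0 in
set_option maxRecDepth 100000 in
theorem hcb14 : chkComb 2 16 rowsF 0 14 (0) cb14 = true := by decide +kernel
set_option maxRecDepth 100000 in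
/-- A combination. -/
def cb15 : List (ℕ × ℤ) := [(0,.negSucc 2),(1,.negSucc 0),(2,.negSucc 1),(3,.negSucc 0),(4,.ofNat 2),(5,.negSucc 0),(6,.negSucc 1),(7,.ofNat 1),(8,.negSucc 2),(9,.negSucc 1),(10,.negSucc 2),(11,.ofNat 1),(12,.negSucc 4),(13,.ofNat 1),(14,.ofNat 1),(15,.ofNat 1),(16,.negSucc 0),(18,.negSucc 5)]
set_option maxHeartbeats 0 in
set_option maxRecDepth 100000 in
theorem hcb15 : chkComb 2 16 rowsF 0 15 (0) cb15 = true := by decide +kernel

theorem hcert : ∀ q, q < 16 → ∃ (a : ℤ) (L : List (ℕ × ℤ)), chkComb 2 16 rowsF 0 q a L = true ∧ (q = 0 → a = 1 - ((1 : ℕ) : ℤ)) := by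
  intro q hq
  interval_cases q
  · exact ⟨0, cb0, hcb0, by norm_num⟩
  · exact ⟨0, cb1, hcb1, by norm_num⟩
  · exact ⟨0, cb2, hcb2, by norm_num⟩
  · exact ⟨0, cb3, hcb3, by norm_num⟩
  · exact ⟨0, cb4, hcb4, by norm_num⟩
  · exact ⟨0, cb5, hcb5, by norm_num⟩
  · exact ⟨0, cb6, hcb6, by norm_num⟩
  · exact ⟨0, cb7, hcb7, by norm_num⟩
  · exact ⟨0, cb8, hcb8, by norm_num⟩
  · exact ⟨0, cb9, hcb9, by norm_num⟩
  · exact ⟨0, cb10, hcb10, by norm_num⟩
  · exact ⟨0, cb11, hcb11, by norm_num⟩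
  · exact ⟨0, cb12, hcb12, by norm_num⟩
  · exact ⟨0, cb13, hcb13, by norm_num⟩
  · exact ⟨0, cb14, hcb14, by norm_num⟩
  · exact ⟨0, cb15, hcb15, by norm_num⟩


end Cfsg.Agent.Lib.KnownSimple.MultM.U33H
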